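import Groth.Agent.Lib.RelDiv.Cancel
import Groth.Agent.Lib.BlowUp.Universal
import Groth.Agent.Lib.CurveMult.NefGenusZero
import Groth.Agent.Lib.AssPts.Points
import Groth.Agent.Lib.RedSub.Basic
import Mathlib.RingTheory.Ideal.KrullsHeightTheorem

/-!
# An effective Cartier divisor supported on integral Cartier divisors is their combination
-/

set_option linter.all false
set_option backward.isDefEq.respectTransparency false

universe u

open CategoryTheory AlgebraicGeometry TopologicalSpace

namespace GrothLib.DivProd10

open GrothLib.WeakAss (primeAt notMem_primeAt_iff)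

variable {X : Scheme.{u}}

theorem mem_support_iff_le {I : X.IdealSheafData} {U : X.affineOpens} {x : X} (hx : x ∈ U.1) :
    x ∈ I.support ↔ I.ideal U ≤ primeAt x hx := by
  rw [Scheme.IdealSheafData.mem_support_iff_of_mem hx, Scheme.mem_zeroLocus_iff]
  constructor
  · intro h a ha
    by_contra hn
    exact h a ha (notMem_primeAt_iff.1 hn)
  · intro h a ha hb
    exact notMem_primeAt_iff.2 hb (h ha)

/-- A point of the support of a nontrivial Cartier divisor lies above a point with prime of height at most one
which is maximal in the support. -/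
theorem exists_height_one [IsLocallyNoetherian X] {D : X.IdealSheafData} (hD : _root_.BlowUp.IsEffCartierIdeal D)
    (h : D ≠ ⊤) :
    ∃ (U : X.affineOpens) (y : X) (hy : y ∈ U.1), y ∈ D.support ∧ (primeAt y hy).height ≤ 1 := by
  obtain ⟨x, hx⟩ : (D.support : Set X).Nonempty := by
    rw [Set.nonempty_iff_ne_empty]
    intro e
    exact h ((Scheme.IdealSheafData.support_eq_bot_iff _).1 (SetLike.coe_injective e))
  obtain ⟨U, hxU, f, hf, e⟩ := hD x
  have := IsLocallyNoetherian.component_noetherian U
  have hle := (mem_support_iff_le hxU).1 hx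
  obtain ⟨p, hp, hpx⟩ := Ideal.exists_minimalPrimes_le hle
  haveI := hp.1.1
  obtain ⟨y, hy, rfl⟩ := AssPts.exists_point U.2 p hp.1.1
  refine ⟨U, y, hy, (mem_support_iff_le hy).2 hp.1.2, ?_⟩
  haveI : (D.ideal U).IsPrincipal := ⟨⟨f, e⟩⟩
  exact Ideal.height_le_one_of_isPrincipal_of_mem_minimalPrimes _ _ hp

theorem exists_prod [IsNoetherian X] {r : ℕ} (Ds : Fin r → X.IdealSheafData)
    (hDs : ∀ i, _root_.BlowUp.IsEffCartierIdeal (Ds i)) (hint : ∀ i, IsIntegral (Ds i).subscheme)
    (D : X.IdealSheafData) (hD : _root_.BlowUp.IsEffCartierIdeal D)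
    (hsub : (D.support : Set X) ⊆ ⋃ i, ((Ds i).support : Set X)) :
    ∃ a : Fin r → ℕ, D = ∏ i, Ds i ^ a i := by
  haveI := CurveMult.wellFoundedGT_idealSheafData (X := X)
  induction D using WellFoundedGT.induction with
  | ind D ih =>
    by_cases hD1 : D = ⊤
    · exact ⟨0, by simp [hD1, ← Scheme.IdealSheafData.one_eq_top]⟩
    obtain ⟨U, y, hy, hyD, hht⟩ := exists_height_one hD hD1
    obtain ⟨i, hyi⟩ := Set.mem_iUnion.1 (hsub hyD)
    haveI := hint i
    let g := (Ds i).subschemeι (genericPoint (Ds i).subscheme)
    have hgc : closure {g} = ((Ds i).support : Set X) := by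
      rw [← Scheme.IdealSheafData.range_subschemeι, ← Set.image_singleton,
        (Ds i).subschemeι.isClosedEmbedding.closure_image_eq, genericPoint_closure, Set.image_univ]
    have hgy : g ⤳ y := by rw [specializes_iff_mem_closure, hgc]; exact hyi
    have hgU : g ∈ U.1 := hgy.mem_open U.1.2 hy
    have hle : primeAt g hgU ≤ primeAt y hy := (AssPts.specializes_iff U.2 hgU hy).1 hgy
    have hgeq : g = y := by
      refine AssPts.primeAt_injective U.2 hgU hy (eq_of_le_of_not_lt hle fun hlt => ?_)
      refine BlowUp.notMem_support_of_maximal (hDs i) (x := g) (fun z hz => ?_)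
        (hgc ▸ subset_closure rfl : g ∈ ((Ds i).support : Set X))
      have hzU : z ∈ U.1 := hz.mem_open U.1.2 hgU
      have hzle : primeAt z hzU ≤ primeAt g hgU := (AssPts.specializes_iff U.2 hzU hgU).1 hz
      refine AssPts.primeAt_injective U.2 hzU hgU (eq_of_le_of_not_lt hzle fun hlt' => ?_)
      haveI := IsLocallyNoetherian.component_noetherian U
      have h1 := Ideal.height_strict_mono_of_isPrime hlt'
      have h2 := Ideal.height_strict_mono_of_isPrime hlt
      have h3 : (primeAt g hgU).height < 1 := lt_of_lt_of_le h2 hht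
      rw [Order.lt_one_iff] at h3
      rw [h3] at h1
      exact not_lt_bot h1
    have hsubi : ((Ds i).support : Set X) ⊆ D.support := by
      rw [← hgc, hgeq]
      exact closure_minimal (Set.singleton_subset_iff.2 hyD) D.support.isClosed
    have hDle : D ≤ Ds i := by
      have e : (Ds i).radical = Ds i :=
        Scheme.IdealSheafData.ext (funext fun W =>
          ((RedSub.isReduced_subscheme_iff (Ds i)).1 inferInstance W).radical)
      rw [← e, ← Scheme.IdealSheafData.vanishingIdeal_support]
      exact Scheme.IdealSheafData.le_support_iff_le_vanishingIdeal.1 hsubi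
    obtain ⟨J, hJ, rfl⟩ := RelDiv.exists_eq_mul (hDs i) hD hDle
    have hlt : Ds i * J < J := by
      refine lt_of_le_of_ne (fun W => Ideal.mul_le_right) fun e => ?_
      have : Ds i = ⊤ := RelDiv.eq_of_mul_eq_mul_left hJ (by rw [mul_comm, e, Scheme.IdealSheafData.mul_top])
      rw [this, Scheme.IdealSheafData.support_top] at hyi
      exact hyi
    obtain ⟨a, ha⟩ := ih J hlt hJ
      (Set.Subset.trans (Scheme.IdealSheafData.support_antitone hlt.le) hsub)
    refine ⟨a + Pi.single i 1, ?_⟩
    simp only [Pi.add_apply, pow_add, Finset.prod_mul_distrib, ← ha]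
    rw [Finset.prod_eq_single i (fun j _ hj => by simp [Pi.single_eq_of_ne hj]) (by simp), Pi.single_eq_same,
      pow_one, mul_comm]

end GrothLib.DivProd10
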